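import Groth.Agent.WeakAssLib.Basic
import Groth.Agent.QC.Localisation
import Groth.Prelude.Def_TorSh
import Groth.Prelude.Def_Coh

/-!
Germs of sections of torsion free quasi-coherent modules on reduced locally Noetherian schemes.
-/

set_option autoImplicit false
set_option linter.style.haveILetI false
set_option backward.isDefEq.respectTransparency false
set_option backward.isDefEq.respectTransparency.types false

universe u

open CategoryTheory AlgebraicGeometry TopologicalSpace Groth.Agent.QC Groth.Agent.WeakAssLib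

namespace Groth.Agent.TFGerm

lemma isField_of_minimal {A B : Type u} [CommRing A] [CommRing B] [Algebra A B] [_root_.IsReduced B]
    (P : Ideal A) [P.IsPrime] [IsLocalization.AtPrime B P] (hP : P ∈ minimalPrimes A) : IsField B := by
  haveI : IsLocalRing B := IsLocalization.AtPrime.isLocalRing B P
  haveI : Ring.KrullDimLE 0 B := Ring.krullDimLE_iff.2 (by
    rw [IsLocalization.AtPrime.ringKrullDim_eq_height P B, Ideal.height_eq_zero_iff.2 hP]
    rfl)
  exact Ring.KrullDimLE.isField_of_isReduced

/-- A section of a torsion free quasi-coherent module whose germ at `x` vanishes is zero, when every point of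
its domain with field local ring specialises to `x`. -/
theorem germ_injective {X : Scheme.{u}} [IsLocallyNoetherian X] [IsReduced X] (F : X.Modules)
    [F.IsQuasicoherent] (htF : TorSh.IsTorsionFree F) (x : X) (U : X.Opens) (hxU : x ∈ U)
    (hU : ∀ y : X, y ∈ U → IsField (X.presheaf.stalk y) → x ∈ closure ({y} : Set X)) :
    Function.Injective (F.presheaf.germ U x hxU) := by
  change Function.Injective (mgerm F hxU)
  rw [injective_iff_map_eq_zero]
  intro s hs
  refine ext_germ F s fun y hy => ?_
  obtain ⟨W, hW, hyW, hWU⟩ := exists_isAffineOpen_mem_and_subset (X := X) (x := y) (U := U) hy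
  haveI : IsNoetherianRing Γ(X, W) := IsLocallyNoetherian.component_noetherian ⟨W, hW⟩
  -- the annihilator of `s` meets the complement of every minimal prime
  let I : Ideal Γ(X, W) := LinearMap.ker (LinearMap.toSpanSingleton Γ(X, W) Γ(F, W) (res F hWU s))
  have hI : ∀ P ∈ minimalPrimes Γ(X, W), ¬ I ≤ P := by
    intro P hP hle
    haveI := hP.1.1
    have hη : hW.fromSpec.base ⟨P, hP.1.1⟩ ∈ W := by
      have h : hW.fromSpec.base ⟨P, hP.1.1⟩ ∈ Set.range hW.fromSpec.base := ⟨_, rfl⟩
      rwa [hW.range_fromSpec] at h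
    have hp : hW.primeIdealOf ⟨_, hη⟩ = ⟨P, hP.1.1⟩ :=
      hW.fromSpec.isOpenEmbedding.injective (hW.fromSpec_primeIdealOf _)
    generalize hη' : hW.fromSpec.base ⟨P, hP.1.1⟩ = η at hη hp
    have hfield : IsField (X.presheaf.stalk η) := by
      letI := TopCat.Presheaf.algebra_section_stalk X.presheaf (⟨η, hη⟩ : W)
      haveI := hW.isLocalization_stalk ⟨η, hη⟩
      exact isField_of_minimal (hW.primeIdealOf ⟨η, hη⟩).asIdeal (by rw [hp]; exact hP)
    obtain ⟨N, hxN, i, j, he⟩ := TopCat.Presheaf.germ_eq F.presheaf x hxU hxU s 0 (hs.trans (map_zero _).symm)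
    have hηN : η ∈ N := (specializes_iff_mem_closure.2 (hU η (hWU hη) hfield)).mem_open N.isOpen hxN
    have hgη : mgerm F hη (res F hWU s) = 0 := by
      rw [mgerm_res, ← mgerm_res F i.le hηN s]
      exact (congrArg (mgerm F hηN) (he.trans (map_zero _))).trans (map_zero _)
    obtain ⟨a, ha, has⟩ := (germ_eq_zero_iff hW (isLoc_of_isQCoh hW) hη _).1 hgη
    rw [hp] at ha
    exact ha (hle has)
  obtain ⟨a, haI, ha⟩ : ∃ a ∈ I, ∀ P ∈ minimalPrimes Γ(X, W), a ∉ P := by
    by_contra hc
    push Not at hc
    have hfin := minimalPrimes.finite_of_isNoetherianRing Γ(X, W)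
    obtain ⟨P, hP, hle⟩ := (Ideal.subset_union_prime (s := hfin.toFinset) (f := fun P => P) ⊥ ⊥
      (fun P hP _ _ => (hfin.mem_toFinset.1 hP).1.1) (I := I)).1 (fun a ha => by
        obtain ⟨P, hP, haP⟩ := hc a ha
        exact Set.mem_biUnion (hfin.mem_toFinset.2 hP) haP)
    exact hI P (hfin.mem_toFinset.1 hP) hle
  have hreg : IsRegular a := by
    refine isRegular_iff_mem_nonZeroDivisors.2 (mem_nonZeroDivisors_iff_right.2 fun b hb => ?_)
    have hnil : b ∈ nilradical Γ(X, W) := by
      rw [nilradical, Ideal.zero_eq_bot, ← Ideal.sInf_minimalPrimes]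
      refine Ideal.mem_sInf.2 fun {P} hP => (hP.1.1.mem_or_mem (?_ : b * a ∈ P)).resolve_right (ha P hP)
      rw [hb]; exact P.zero_mem
    rwa [nilradical_eq_zero, Ideal.zero_eq_bot, Ideal.mem_bot] at hnil
  letI := TopCat.Presheaf.algebra_section_stalk X.presheaf (⟨y, hyW⟩ : W)
  haveI := hW.isLocalization_stalk ⟨y, hyW⟩
  have hreg' : IsRegular ((X.presheaf.germ W y hyW).hom a) :=
    isRegular_iff_mem_nonZeroDivisors.2 (IsLocalization.map_nonZeroDivisors_le
      (hW.primeIdealOf ⟨y, hyW⟩).asIdeal.primeCompl (X.presheaf.stalk y)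
      ⟨a, isRegular_iff_mem_nonZeroDivisors.1 hreg, rfl⟩)
  have h0 : (X.presheaf.germ W y hyW).hom a • mgerm F hyW (res F hWU s) = 0 := by
    rw [← mgerm_smul, show a • res F hWU s = 0 from haI, map_zero]
  rw [← mgerm_res F hWU hyW s]
  exact ((htF y).isSMulRegular hreg') (h0.trans (smul_zero _).symm)

end Groth.Agent.TFGerm
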