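import Groth.Agent.WeakAssLib.Basic
import Groth.Agent.QC.Localisation
import Groth.Prelude.Def_TorSh
import Groth.Prelude.Def_Coh

/-!
Germs of sections of torsion free quasi-coherent modules on reduced locally Noetherian schemes.
-/

set_option autoImplicit false
set_option linter.style.haveILetI false
set_option backward.isDefEq.respectTransparency false
set_option backward.isDefEq.respectTransparency.types false

universe u

open CategoryTheory AlgebraicGeometry TopologicalSpace Groth.Agent.QC Groth.Agent.WeakAssLib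

namespace Groth.Agent.TFGerm

lemma isField_of_minimal {A B : Type u} [CommRing A] [CommRing B] [Algebra A B] [_root_.IsReduced B]
    (P : Ideal A) [P.IsPrime] [IsLocalization.AtPrime B P] (hP : P ∈ minimalPrimes A) : IsField B := by
  haveI : IsLocalRing B := IsLocalization.AtPrime.isLocalRing B P
  haveI : Ring.KrullDimLE 0 B := Ring.krullDimLE_iff.2 (by
    rw [IsLocalization.AtPrime.ringKrullDim_eq_height P B, Ideal.height_eq_zero_iff.2 hP]
    rfl)
  exact Ring.KrullDimLE.isField_of_isReduced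

/-- A section of a torsion free quasi-coherent module with vanishing germs on a dense open is zero. -/
theorem eq_zero_of_dense {X : Scheme.{u}} [IsLocallyNoetherian X] [IsReduced X] (F : X.Modules)
    [F.IsQuasicoherent] (htF : TorSh.IsTorsionFree F) (D : X.Opens) (hD : Dense (D : Set X))
    {U : X.Opens} (s : Γ(F, U)) (hs : ∀ (y : X) (hy : y ∈ U), y ∈ D → mgerm F hy s = 0) : s = 0 := by
  refine ext_germ F s fun y hy => ?_
  obtain ⟨W, hW, hyW, hWU⟩ := exists_isAffineOpen_mem_and_subset (X := X) (x := y) (U := U) hy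
  haveI : IsNoetherianRing Γ(X, W) := IsLocallyNoetherian.component_noetherian ⟨W, hW⟩
  -- the annihilator of `s` meets the complement of every minimal prime
  let I : Ideal Γ(X, W) := LinearMap.ker (LinearMap.toSpanSingleton Γ(X, W) Γ(F, W) (res F hWU s))
  have hI : ∀ P ∈ minimalPrimes Γ(X, W), ¬ I ≤ P := by
    intro P hP hle
    haveI := hP.1.1
    have hη : hW.fromSpec.base ⟨P, hP.1.1⟩ ∈ W := by
      have h : hW.fromSpec.base ⟨P, hP.1.1⟩ ∈ Set.range hW.fromSpec.base := ⟨_, rfl⟩
      rwa [hW.range_fromSpec] at h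
    have hp : hW.primeIdealOf ⟨_, hη⟩ = ⟨P, hP.1.1⟩ :=
      hW.fromSpec.isOpenEmbedding.injective (hW.fromSpec_primeIdealOf _)
    generalize hη' : hW.fromSpec.base ⟨P, hP.1.1⟩ = η at hη hp
    have hηD : η ∈ D := by
      -- an element of the other minimal primes outside `P`
      classical
      have hfin := minimalPrimes.finite_of_isNoetherianRing Γ(X, W)
      obtain ⟨a, ha, haP⟩ : ∃ a ∈ ⨅ Q ∈ hfin.toFinset.erase P, Q, a ∉ P := by
        by_contra hc
        push Not at hc
        obtain ⟨Q, hQ, hle'⟩ := (hP.1.1.inf_le' (s := hfin.toFinset.erase P) (f := id)).1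
          (fun a ha => hc a (by
            simp only [Ideal.mem_iInf]
            exact fun Q hQ => Finset.inf_le (f := id) hQ ha))
        rw [Finset.mem_erase, hfin.mem_toFinset] at hQ
        exact hQ.1 (le_antisymm hle' (hP.2 hQ.2.1 hle'))
      have hηa : η ∈ X.basicOpen a := by
        rw [Scheme.mem_basicOpen _ a η hη]
        letI := TopCat.Presheaf.algebra_section_stalk X.presheaf (⟨η, hη⟩ : W)
        haveI := hW.isLocalization_stalk ⟨η, hη⟩
        exact (IsLocalization.AtPrime.isUnit_to_map_iff (X.presheaf.stalk η)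
          (hW.primeIdealOf ⟨η, hη⟩).asIdeal a).2 (by rw [hp]; exact haP)
      obtain ⟨z, hza, hzD⟩ := dense_iff_inter_open.1 hD _ (X.basicOpen a).2 ⟨η, hηa⟩
      have hzW : z ∈ W := X.basicOpen_le a hza
      have haz : a ∉ (hW.primeIdealOf ⟨z, hzW⟩).asIdeal := by
        replace hza := (Scheme.mem_basicOpen _ a z hzW).1 hza
        letI := TopCat.Presheaf.algebra_section_stalk X.presheaf (⟨z, hzW⟩ : W)
        haveI := hW.isLocalization_stalk ⟨z, hzW⟩
        exact (IsLocalization.AtPrime.isUnit_to_map_iff (X.presheaf.stalk z)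
          (hW.primeIdealOf ⟨z, hzW⟩).asIdeal a).1 hza
      obtain ⟨Q, hQ, hQle⟩ := Ideal.exists_minimalPrimes_le (I := ⊥) (J := (hW.primeIdealOf ⟨z, hzW⟩).asIdeal) bot_le
      have hQP : Q = P := by
        by_contra hne
        simp only [Ideal.mem_iInf] at ha
        exact haz (hQle (ha Q (Finset.mem_erase.2 ⟨hne, hfin.mem_toFinset.2 hQ⟩)))
      have hsp : η ⤳ z := by
        have h1 := ((PrimeSpectrum.le_iff_specializes (⟨P, hP.1.1⟩ : PrimeSpectrum Γ(X, W))
          (hW.primeIdealOf ⟨z, hzW⟩)).1 (hQP ▸ hQle)).map hW.fromSpec.continuous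
        rwa [hW.fromSpec_primeIdealOf ⟨z, hzW⟩, hη'] at h1
      exact hsp.mem_open D.2 hzD
    have hgη : mgerm F hη (res F hWU s) = 0 := by
      rw [mgerm_res]; exact hs η (hWU hη) hηD
    obtain ⟨a, ha, has⟩ := (germ_eq_zero_iff hW (isLoc_of_isQCoh hW) hη _).1 hgη
    rw [hp] at ha
    exact ha (hle has)
  obtain ⟨a, haI, ha⟩ : ∃ a ∈ I, ∀ P ∈ minimalPrimes Γ(X, W), a ∉ P := by
    by_contra hc
    push Not at hc
    have hfin := minimalPrimes.finite_of_isNoetherianRing Γ(X, W)
    obtain ⟨P, hP, hle⟩ := (Ideal.subset_union_prime (s := hfin.toFinset) (f := fun P => P) ⊥ ⊥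
      (fun P hP _ _ => (hfin.mem_toFinset.1 hP).1.1) (I := I)).1 (fun a ha => by
        obtain ⟨P, hP, haP⟩ := hc a ha
        exact Set.mem_biUnion (hfin.mem_toFinset.2 hP) haP)
    exact hI P (hfin.mem_toFinset.1 hP) hle
  have hreg : IsRegular a := by
    refine isRegular_iff_mem_nonZeroDivisors.2 (mem_nonZeroDivisors_iff_right.2 fun b hb => ?_)
    have hnil : b ∈ nilradical Γ(X, W) := by
      rw [nilradical, Ideal.zero_eq_bot, ← Ideal.sInf_minimalPrimes]
      refine Ideal.mem_sInf.2 fun {P} hP => (hP.1.1.mem_or_mem (?_ : b * a ∈ P)).resolve_right (ha P hP)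
      rw [hb]; exact P.zero_mem
    rwa [nilradical_eq_zero, Ideal.zero_eq_bot, Ideal.mem_bot] at hnil
  letI := TopCat.Presheaf.algebra_section_stalk X.presheaf (⟨y, hyW⟩ : W)
  haveI := hW.isLocalization_stalk ⟨y, hyW⟩
  have hreg' : IsRegular ((X.presheaf.germ W y hyW).hom a) :=
    isRegular_iff_mem_nonZeroDivisors.2 (IsLocalization.map_nonZeroDivisors_le
      (hW.primeIdealOf ⟨y, hyW⟩).asIdeal.primeCompl (X.presheaf.stalk y)
      ⟨a, isRegular_iff_mem_nonZeroDivisors.1 hreg, rfl⟩)
  have h0 : (X.presheaf.germ W y hyW).hom a • mgerm F hyW (res F hWU s) = 0 := by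
    rw [← mgerm_smul, show a • res F hWU s = 0 from haI, map_zero]
  rw [← mgerm_res F hWU hyW s]
  exact ((htF y).isSMulRegular hreg') (h0.trans (smul_zero _).symm)

/-- A morphism into a torsion free quasi-coherent module vanishing on a dense open is zero. -/
theorem hom_eq_zero {X : Scheme.{u}} [IsLocallyNoetherian X] [IsReduced X] {G F : X.Modules}
    [F.IsQuasicoherent] (htF : TorSh.IsTorsionFree F) (D : X.Opens) (hD : Dense (D : Set X)) (g : G ⟶ F)
    (hg : (Scheme.Modules.restrictFunctor D.ι).map g = 0) : g = 0 := by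
  refine Scheme.Modules.hom_ext _ _ fun W => ?_
  ext s
  refine eq_zero_of_dense F htF D hD (g.app W s) fun y hy hyD => ?_
  have hWD : D.ι ''ᵁ (D.ι ⁻¹ᵁ W) = D ⊓ W := by
    rw [Scheme.Hom.image_preimage_eq_opensRange_inf, Scheme.Opens.opensRange_ι]
  have h0 : g.app (D.ι ''ᵁ (D.ι ⁻¹ᵁ W)) = 0 := by
    exact congrArg (fun h => h.app (D.ι ⁻¹ᵁ W)) hg
  rw [hWD] at h0
  rw [← mgerm_res F (inf_le_right : D ⊓ W ≤ W) ⟨hyD, hy⟩]
  have h1 : res F (inf_le_right : D ⊓ W ≤ W) (g.app W s) = g.app (D ⊓ W) (res G inf_le_right s) :=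
    (ConcreteCategory.congr_hom (g.mapPresheaf.naturality (homOfLE (inf_le_right : D ⊓ W ≤ W)).op) s).symm
  rw [h1, h0]
  exact map_zero _

end Groth.Agent.TFGerm
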